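import Cfsg.Prelude.Def_Spor_Fi24
import Cfsg.Agent.Helper91.FTC.Spec

set_option autoImplicit false

/-!
# FastTC for Fi₂₄: the presentation in generator numbers

Generator numbers: `l k a b c d e f g j h i = 0 1 2 3 4 5 6 7 8 9 10 11` (the order of `Fi24.Gen`).
-/

namespace Cfsg.Agent.Helper91.FTC.Fi24

open Cfsg.Spor

/-- the generators in the order `l k a b c d e f g j h i` -/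
def gen : ℕ → Fi24.Gen
  | 0 => .l | 1 => .k | 2 => .a | 3 => .b | 4 => .c | 5 => .d
  | 6 => .e | 7 => .f | 8 => .g | 9 => .j | 10 => .h | _ => .i

/-- the relators of the presentation of Fi₂₄ -/
abbrev rels : Set (FreeGroup Fi24.Gen) := coxRelators Fi24.edges ∪ {r | r ∈ Fi24.extra}

/-- the image of the generator number `y` in the presented group -/
def γ (y : ℕ) : PresentedGroup rels := PresentedGroup.mk rels (FreeGroup.of (gen y))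

/-- the subgroup of the statement: generated by all generators but `k` -/
def H : Subgroup (PresentedGroup rels) :=
  (Subgroup.closure ({Fi24.a, Fi24.b, Fi24.c, Fi24.d, Fi24.e, Fi24.f, Fi24.g, Fi24.h, Fi24.i,
    Fi24.j, Fi24.l} : Set (FreeGroup Fi24.Gen))).map (PresentedGroup.mk rels)

/-- the edges of the Coxeter graph Y₅₄₂ in generator numbers (smaller number first) -/
def edgeList : List (ℕ × ℕ) :=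
  [(0, 1), (1, 2), (2, 3), (3, 4), (4, 5), (5, 6), (5, 10), (6, 7), (7, 8), (8, 9), (10, 11)]

/-- are the generators `x < y` joined in the Coxeter graph? -/
def isEdge (x y : ℕ) : Bool := decide ((x, y) ∈ edgeList)

/-- the base relators as words of generator numbers: 12 squares, the 66 Coxeter words `(x y)^m`
(`x < y`), `l (h f e d c b a)^9` and its reverse, `(d c b a k l d e f g j d h i)^17` and its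
reverse -/
def base : List (List ℕ) := [
  [0, 0],
  [1, 1],
  [2, 2],
  [3, 3],
  [4, 4],
  [5, 5],
  [6, 6],
  [7, 7],
  [8, 8],
  [9, 9],
  [10, 10],
  [11, 11],
  [0, 1, 0, 1, 0, 1],
  [0, 2, 0, 2],
  [0, 3, 0, 3],
  [0, 4, 0, 4],
  [0, 5, 0, 5],
  [0, 6, 0, 6],
  [0, 7, 0, 7],
  [0, 8, 0, 8],
  [0, 9, 0, 9],
  [0, 10, 0, 10],
  [0, 11, 0, 11],
  [1, 2, 1, 2, 1, 2],
  [1, 3, 1, 3],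
  [1, 4, 1, 4],
  [1, 5, 1, 5],
  [1, 6, 1, 6],
  [1, 7, 1, 7],
  [1, 8, 1, 8],
  [1, 9, 1, 9],
  [1, 10, 1, 10],
  [1, 11, 1, 11],
  [2, 3, 2, 3, 2, 3],
  [2, 4, 2, 4],
  [2, 5, 2, 5],
  [2, 6, 2, 6],
  [2, 7, 2, 7],
  [2, 8, 2, 8],
  [2, 9, 2, 9],
  [2, 10, 2, 10],
  [2, 11, 2, 11],
  [3, 4, 3, 4, 3, 4],
  [3, 5, 3, 5],
  [3, 6, 3, 6],
  [3, 7, 3, 7],
  [3, 8, 3, 8],
  [3, 9, 3, 9],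
  [3, 10, 3, 10],
  [3, 11, 3, 11],
  [4, 5, 4, 5, 4, 5],
  [4, 6, 4, 6],
  [4, 7, 4, 7],
  [4, 8, 4, 8],
  [4, 9, 4, 9],
  [4, 10, 4, 10],
  [4, 11, 4, 11],
  [5, 6, 5, 6, 5, 6],
  [5, 7, 5, 7],
  [5, 8, 5, 8],
  [5, 9, 5, 9],
  [5, 10, 5, 10, 5, 10],
  [5, 11, 5, 11],
  [6, 7, 6, 7, 6, 7],
  [6, 8, 6, 8],
  [6, 9, 6, 9],
  [6, 10, 6, 10],
  [6, 11, 6, 11],
  [7, 8, 7, 8, 7, 8],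
  [7, 9, 7, 9],
  [7, 10, 7, 10],
  [7, 11, 7, 11],
  [8, 9, 8, 9, 8, 9],
  [8, 10, 8, 10],
  [8, 11, 8, 11],
  [9, 10, 9, 10],
  [9, 11, 9, 11],
  [10, 11, 10, 11, 10, 11],
  [0, 10, 7, 6, 5, 4, 3, 2, 10, 7, 6, 5, 4, 3, 2, 10, 7, 6, 5, 4, 3, 2, 10, 7, 6, 5, 4, 3, 2, 10, 7, 6, 5, 4, 3, 2, 10, 7, 6, 5, 4, 3, 2, 10, 7, 6, 5, 4, 3, 2, 10, 7, 6, 5, 4, 3, 2, 10, 7, 6, 5, 4, 3, 2],
  [2, 3, 4, 5, 6, 7, 10, 2, 3, 4, 5, 6, 7, 10, 2, 3, 4, 5, 6, 7, 10, 2, 3, 4, 5, 6, 7, 10, 2, 3, 4, 5, 6, 7, 10, 2, 3, 4, 5, 6, 7, 10, 2, 3, 4, 5, 6, 7, 10, 2, 3, 4, 5, 6, 7, 10, 2, 3, 4, 5, 6, 7, 10, 0],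
  [5, 4, 3, 2, 1, 0, 5, 6, 7, 8, 9, 5, 10, 11, 5, 4, 3, 2, 1, 0, 5, 6, 7, 8, 9, 5, 10, 11, 5, 4, 3, 2, 1, 0, 5, 6, 7, 8, 9, 5, 10, 11, 5, 4, 3, 2, 1, 0, 5, 6, 7, 8, 9, 5, 10, 11, 5, 4, 3, 2, 1, 0, 5, 6, 7, 8, 9, 5, 10, 11, 5, 4, 3, 2, 1, 0, 5, 6, 7, 8, 9, 5, 10, 11, 5, 4, 3, 2, 1, 0, 5, 6, 7, 8, 9, 5, 10, 11, 5, 4, 3, 2, 1, 0, 5, 6, 7, 8, 9, 5, 10, 11, 5, 4, 3, 2, 1, 0, 5, 6, 7, 8, 9, 5, 10, 11, 5, 4, 3, 2, 1, 0, 5, 6, 7, 8, 9, 5, 10, 11, 5, 4, 3, 2, 1, 0, 5, 6, 7, 8, 9, 5, 10, 11, 5, 4, 3, 2, 1, 0, 5, 6, 7, 8, 9, 5, 10, 11, 5, 4, 3, 2, 1, 0, 5, 6, 7, 8, 9, 5, 10, 11, 5, 4, 3, 2, 1, 0, 5, 6, 7, 8, 9, 5, 10, 11, 5, 4, 3, 2, 1, 0, 5, 6, 7, 8, 9, 5, 10, 11, 5, 4, 3, 2, 1, 0, 5, 6, 7, 8, 9, 5, 10, 11, 5, 4, 3, 2, 1, 0, 5, 6, 7, 8, 9, 5, 10, 11],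
  [11, 10, 5, 9, 8, 7, 6, 5, 0, 1, 2, 3, 4, 5, 11, 10, 5, 9, 8, 7, 6, 5, 0, 1, 2, 3, 4, 5, 11, 10, 5, 9, 8, 7, 6, 5, 0, 1, 2, 3, 4, 5, 11, 10, 5, 9, 8, 7, 6, 5, 0, 1, 2, 3, 4, 5, 11, 10, 5, 9, 8, 7, 6, 5, 0, 1, 2, 3, 4, 5, 11, 10, 5, 9, 8, 7, 6, 5, 0, 1, 2, 3, 4, 5, 11, 10, 5, 9, 8, 7, 6, 5, 0, 1, 2, 3, 4, 5, 11, 10, 5, 9, 8, 7, 6, 5, 0, 1, 2, 3, 4, 5, 11, 10, 5, 9, 8, 7, 6, 5, 0, 1, 2, 3, 4, 5, 11, 10, 5, 9, 8, 7, 6, 5, 0, 1, 2, 3, 4, 5, 11, 10, 5, 9, 8, 7, 6, 5, 0, 1, 2, 3, 4, 5, 11, 10, 5, 9, 8, 7, 6, 5, 0, 1, 2, 3, 4, 5, 11, 10, 5, 9, 8, 7, 6, 5, 0, 1, 2, 3, 4, 5, 11, 10, 5, 9, 8, 7, 6, 5, 0, 1, 2, 3, 4, 5, 11, 10, 5, 9, 8, 7, 6, 5, 0, 1, 2, 3, 4, 5, 11, 10, 5, 9, 8, 7, 6, 5, 0, 1, 2, 3, 4, 5, 11, 10, 5, 9, 8, 7, 6, 5, 0, 1, 2, 3, 4, 5]]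

end Cfsg.Agent.Helper91.FTC.Fi24
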